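import Groth.Agent.Lib.SmCoord14.Algebra
import Mathlib.AlgebraicGeometry.AffineSpace
import Mathlib.AlgebraicGeometry.Morphisms.Etale
import Mathlib.AlgebraicGeometry.Morphisms.Smooth
import Mathlib.AlgebraicGeometry.Morphisms.ClosedImmersion

/-!
Étale local structure of a smooth closed subscheme of a smooth scheme.
-/

universe u

open CategoryTheory CategoryTheory.Limits AlgebraicGeometry MvPolynomial

namespace Groth.Agent.SmCoord14

section Chart

variable {X S : Scheme.{u}} (f : X ⟶ S) {U : S.Opens} (hU : IsAffineOpen U) {V : X.Opens}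
  (hV : IsAffineOpen V) (hVU : V ≤ f ⁻¹ᵁ U) {σ : Type u} (w : σ → Γ(X, V))

include hU hV in
/-- An etale chart from an etale ring map on affine opens. -/
theorem etale_homOfVector (hw : (eval₂Hom (f.appLE U V hVU).hom w).Etale) :
    Etale (AffineSpace.homOfVector (V.ι ≫ f) (fun j => V.topIso.inv (w j))) := by
  haveI : IsAffine U := hU
  haveI : IsAffine V := hV
  let g := f.resLE U V hVU
  let χ := AffineSpace.homOfVector g (fun j => V.topIso.inv (w j))
  have hcomp : χ ≫ AffineSpace.map σ U.ι =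
      AffineSpace.homOfVector (V.ι ≫ f) (fun j => V.topIso.inv (w j)) := by
    refine AffineSpace.hom_ext ?_ fun i => ?_
    · rw [Category.assoc, AffineSpace.map_over, AffineSpace.homOfVector_over_assoc,
        AffineSpace.homOfVector_over]
      exact Scheme.Hom.resLE_comp_ι f hVU
    · refine Eq.trans ?_ (AffineSpace.homOfVector_appTop_coord (V.ι ≫ f) _ i).symm
      show χ.appTop ((AffineSpace.map σ U.ι).appTop (AffineSpace.coord S i)) = _
      exact (congrArg χ.appTop (AffineSpace.map_appTop_coord U.ι i)).trans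
        (AffineSpace.homOfVector_appTop_coord g _ i)
  haveI : IsOpenImmersion (AffineSpace.map σ U.ι) :=
    MorphismProperty.of_isPullback (P := @IsOpenImmersion) (AffineSpace.isPullback_map U.ι).flip
      inferInstance
  rw [← hcomp]
  suffices hE : RingHom.Etale (χ ≫ (AffineSpace.isoOfIsAffine σ U).hom).appTop.hom by
    haveI : Etale (χ ≫ (AffineSpace.isoOfIsAffine σ U).hom) :=
      (HasRingHomProperty.iff_of_isAffine (P := @Etale)).mpr hE
    haveI : Etale χ := by
      rw [← Category.comp_id χ, ← (AffineSpace.isoOfIsAffine σ U).hom_inv_id, ← Category.assoc]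
      infer_instance
    infer_instance
  rw [Scheme.Hom.comp_appTop, AffineSpace.isoOfIsAffine_hom_appTop, Category.assoc,
    CommRingCat.hom_comp, RingHom.Etale.respectsIso.cancel_left_isIso]
  have hθ : CommRingCat.Hom.hom (CommRingCat.ofHom (eval₂Hom ((𝔸(σ; U) ↘ (U : Scheme.{u})).appTop).hom
      (AffineSpace.coord (U : Scheme.{u}))) ≫ χ.appTop) = V.topIso.inv.hom.comp
        ((eval₂Hom (f.appLE U V hVU).hom w).comp (MvPolynomial.map U.topIso.hom.hom)) := by
    refine MvPolynomial.ringHom_ext (fun r => ?_) (fun i => ?_)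
    · rw [CommRingCat.hom_comp, RingHom.comp_apply, RingHom.comp_apply, RingHom.comp_apply, map_C,
        eval₂Hom_C, CommRingCat.hom_ofHom, eval₂Hom_C]
      have h1 : (𝔸(σ; U) ↘ (U : Scheme.{u})).appTop ≫ χ.appTop =
          U.topIso.hom ≫ f.appLE U V hVU ≫ V.topIso.inv := by
        rw [← Scheme.Hom.comp_appTop, AffineSpace.homOfVector_over]
        exact Scheme.Hom.resLE_app_top f hVU
      exact CategoryTheory.congr_fun h1 r
    · rw [CommRingCat.hom_comp, RingHom.comp_apply, RingHom.comp_apply, RingHom.comp_apply, map_X,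
        eval₂Hom_X', CommRingCat.hom_ofHom, eval₂Hom_X']
      exact AffineSpace.homOfVector_appTop_coord _ _ i
  rw [hθ]
  exact RingHom.Etale.respectsIso.1 _ V.topIso.symm.commRingCatIsoToRingEquiv
    (RingHom.Etale.respectsIso.2 _
      (MvPolynomial.mapEquiv σ U.topIso.commRingCatIsoToRingEquiv) hw)

end Chart

section Pullback

variable {S X Y : Scheme.{u}} (pX : X ⟶ S) (i : Y ⟶ X) [IsClosedImmersion i] {D : X.Opens}
  (hD : IsAffineOpen D) {m n : ℕ} (w : ULift.{u} (Fin m ⊕ Fin n) → Γ(X, D))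

/-- A morphism into an affine open lifts to a closed subscheme when it kills its global equations. -/
theorem exists_lift_restrict (hD : IsAffineOpen D) {T : Scheme.{u}} (b : T ⟶ (D : Scheme.{u}))
    (hb : RingHom.ker (i ∣_ D).appTop.hom ≤ RingHom.ker b.appTop.hom) :
    ∃ l : T ⟶ _, l ≫ (i ∣_ D) = b := by
  haveI : IsAffine D := hD
  haveI : IsClosedImmersion (i ∣_ D) := inferInstance
  have h : (i ∣_ D).ker ≤ b.ker := by
    refine Scheme.IdealSheafData.le_ofIdeals_iff.mpr fun V => ?_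
    rw [← (i ∣_ D).ker.map_ideal (U := V) (V := ⟨⊤, isAffineOpen_top _⟩) (show V.1 ≤ ⊤ from le_top), Scheme.Hom.ker_apply,
      Ideal.map_le_iff_le_comap]
    intro a ha
    rw [Ideal.mem_comap, RingHom.mem_ker]
    have hn := CategoryTheory.congr_fun
      (b.naturality (homOfLE (le_top : V.1 ≤ ⊤)).op) a
    simp only [CommRingCat.comp_apply] at hn
    refine hn.trans ?_
    have h0 : b.app ⊤ a = 0 := hb ha
    rw [h0, map_zero]
  exact ⟨IsClosedImmersion.lift (i ∣_ D) b h, IsClosedImmersion.lift_fac _ _ h⟩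

/-- The coordinate subspace. -/
noncomputable abbrev zeroSection (S : Scheme.{u}) (m n : ℕ) :
    𝔸(ULift.{u} (Fin m); S) ⟶ 𝔸(ULift.{u} (Fin m ⊕ Fin n); S) :=
  AffineSpace.homOfVector (𝔸(ULift.{u} (Fin m); S) ↘ S)
    (fun j : ULift.{u} (Fin m ⊕ Fin n) =>
      Sum.elim (fun a => AffineSpace.coord S (ULift.up a)) (fun _ => 0) j.down)

/-- The projection onto the first coordinates. -/
noncomputable abbrev retraction (S : Scheme.{u}) (m n : ℕ) :
    𝔸(ULift.{u} (Fin m ⊕ Fin n); S) ⟶ 𝔸(ULift.{u} (Fin m); S) :=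
  AffineSpace.homOfVector (𝔸(ULift.{u} (Fin m ⊕ Fin n); S) ↘ S)
    (fun a => AffineSpace.coord S (ULift.up (Sum.inl a.down)))

theorem zeroSection_retraction : zeroSection S m n ≫ retraction S m n = 𝟙 _ := by
  refine AffineSpace.hom_ext ?_ fun a => ?_
  · simp
  · show (zeroSection S m n).appTop ((retraction S m n).appTop (AffineSpace.coord S a)) =
      AffineSpace.coord S a
    rw [AffineSpace.homOfVector_appTop_coord, AffineSpace.homOfVector_appTop_coord]
    rfl

include hD in
theorem isPullback_zeroSection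
    (hker : RingHom.ker (i ∣_ D).appTop.hom =
      Ideal.span (Set.range fun b : Fin n => D.topIso.inv (w ⟨Sum.inr b⟩))) :
    IsPullback ((i ∣_ D) ≫ AffineSpace.homOfVector (D.ι ≫ pX) (fun j => D.topIso.inv (w j)) ≫
        retraction S m n)
      (i ∣_ D) (zeroSection S m n)
      (AffineSpace.homOfVector (D.ι ≫ pX) (fun j => D.topIso.inv (w j))) := by
  set π := AffineSpace.homOfVector (D.ι ≫ pX) (fun j => D.topIso.inv (w j)) with hπ
  have hzero : ∀ b : Fin n, (i ∣_ D).appTop (D.topIso.inv (w ⟨Sum.inr b⟩)) = 0 := fun b =>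
    RingHom.mem_ker.mp (hker ▸ Ideal.subset_span ⟨b, rfl⟩)
  have hw : ((i ∣_ D) ≫ π ≫ retraction S m n) ≫ zeroSection S m n = (i ∣_ D) ≫ π := by
    refine AffineSpace.hom_ext ?_ fun j => ?_
    · simp
    · obtain ⟨a | b⟩ := j
      · show (i ∣_ D).appTop (π.appTop ((retraction S m n).appTop
          ((zeroSection S m n).appTop (AffineSpace.coord S ⟨Sum.inl a⟩)))) =
          (i ∣_ D).appTop (π.appTop (AffineSpace.coord S ⟨Sum.inl a⟩))
        rw [AffineSpace.homOfVector_appTop_coord]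
        exact congrArg _ (congrArg _ (AffineSpace.homOfVector_appTop_coord _ _ _))
      · show (i ∣_ D).appTop (π.appTop ((retraction S m n).appTop
          ((zeroSection S m n).appTop (AffineSpace.coord S ⟨Sum.inr b⟩)))) =
          (i ∣_ D).appTop (π.appTop (AffineSpace.coord S ⟨Sum.inr b⟩))
        rw [AffineSpace.homOfVector_appTop_coord]
        simp only [Sum.elim_inr, map_zero, hπ, AffineSpace.homOfVector_appTop_coord]
        exact (hzero b).symm
  refine IsPullback.mk' hw (fun T l l' _ h => (cancel_mono (i ∣_ D)).mp h) fun T a b hab => ?_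
  have hb : RingHom.ker (i ∣_ D).appTop.hom ≤ RingHom.ker b.appTop.hom := by
    rw [hker, Ideal.span_le]
    rintro _ ⟨c, rfl⟩
    rw [SetLike.mem_coe, RingHom.mem_ker]
    have h := congrArg (fun t => t.appTop (AffineSpace.coord S ⟨Sum.inr c⟩)) hab
    simp only [Scheme.Hom.comp_appTop, CommRingCat.comp_apply, hπ,
      AffineSpace.homOfVector_appTop_coord, Sum.elim_inr, map_zero] at h
    exact h.symm
  obtain ⟨l, hl⟩ := exists_lift_restrict i hD b hb
  refine ⟨l, ?_, hl⟩
  rw [reassoc_of% hl, ← reassoc_of% hab, zeroSection_retraction, Category.comp_id]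

end Pullback

section Main

variable {S X Y : Scheme.{u}}

theorem mem_basicOpen_iff_notMem {W : X.Opens} (hW : IsAffineOpen W) (x : W) (a : Γ(X, W)) :
    x.1 ∈ X.basicOpen a ↔ a ∉ (hW.primeIdealOf x).asIdeal := by
  rw [← hW.fromSpec_primeIdealOf x]
  show hW.primeIdealOf x ∈ hW.fromSpec ⁻¹ᵁ X.basicOpen a ↔ _
  rw [hW.fromSpec_preimage_basicOpen]
  rfl

theorem ker_app_le_primeIdealOf (i : Y ⟶ X) {W : X.Opens} (hW : IsAffineOpen W) (y : Y)
    (hy : i y ∈ W) : RingHom.ker (i.app W).hom ≤ (hW.primeIdealOf ⟨i y, hy⟩).asIdeal := by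
  intro a ha
  by_contra hna
  have h : y ∈ i ⁻¹ᵁ X.basicOpen a := (mem_basicOpen_iff_notMem hW ⟨i y, hy⟩ a).mpr hna
  rw [Scheme.preimage_basicOpen, show i.app W a = 0 from ha, Scheme.basicOpen_zero] at h
  exact h

theorem ker_app_basicOpen (i : Y ⟶ X) [QuasiCompact i] {W : X.Opens} (hW : IsAffineOpen W)
    (a : Γ(X, W)) :
    RingHom.ker (i.app (X.basicOpen a)).hom = (RingHom.ker (i.app W).hom).map
      (X.presheaf.map (homOfLE (X.basicOpen_le a)).op).hom := by
  have h := i.ker.map_ideal (U := ⟨_, hW.basicOpen a⟩) (V := ⟨W, hW⟩) (X.basicOpen_le a)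
  rw [Scheme.Hom.ker_apply, Scheme.Hom.ker_apply] at h
  exact h.symm

theorem ker_restrict_appTop (i : Y ⟶ X) {D : X.Opens} :
    RingHom.ker (i ∣_ D).appTop.hom = (RingHom.ker (i.app D).hom).map D.topIso.inv.hom := by
  have h : (i ∣_ D).appTop = D.topIso.hom ≫ i.app D ≫ (i ⁻¹ᵁ D).topIso.inv := by
    rw [← Scheme.Hom.resLE_eq_morphismRestrict, Scheme.Hom.app_eq_appLE]
    exact Scheme.Hom.resLE_app_top i le_rfl
  refine le_antisymm (fun a ha => ?_) (Ideal.map_le_iff_le_comap.mpr fun a ha => ?_)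
  · have ha' : D.topIso.hom a ∈ RingHom.ker (i.app D).hom := by
      rw [RingHom.mem_ker]
      refine ((i ⁻¹ᵁ D).topIso.symm.commRingCatIsoToRingEquiv.map_eq_zero_iff).mp ?_
      exact (CategoryTheory.congr_fun h a).symm.trans ha
    have := Ideal.mem_map_of_mem D.topIso.inv.hom ha'
    rwa [show D.topIso.inv.hom (D.topIso.hom a) = a from
      CategoryTheory.congr_fun D.topIso.hom_inv_id a] at this
  · rw [Ideal.mem_comap, RingHom.mem_ker]
    refine (CategoryTheory.congr_fun h _).trans ?_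
    simp only [CommRingCat.comp_apply]
    rw [show D.topIso.hom (D.topIso.inv.hom a) = a from
      CategoryTheory.congr_fun D.topIso.inv_hom_id a, show i.app D a = 0 from ha, map_zero]

/-- The étale local structure of a smooth closed subscheme of a smooth scheme. -/
theorem exists_etale_coordinates (pX : X ⟶ S) (pY : Y ⟶ S) [Smooth pX] [Smooth pY] (i : Y ⟶ X)
    [IsClosedImmersion i] (w : i ≫ pX = pY) (y : Y) :
    ∃ (U : X.Opens) (_ : IsAffineOpen U) (m n : ℕ) (v : ULift.{u} (Fin m ⊕ Fin n) → Γ(X, U)),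
      i y ∈ U ∧ Etale (AffineSpace.homOfVector (U.ι ≫ pX) (fun j => U.topIso.inv (v j))) ∧
      RingHom.ker (i ∣_ U).appTop.hom =
        Ideal.span (Set.range fun b : Fin n => U.topIso.inv (v ⟨Sum.inr b⟩)) := by
  obtain ⟨U0, hU0, hy0, -⟩ :=
    exists_isAffineOpen_mem_and_subset (TopologicalSpace.Opens.mem_top (pX (i y)))
  obtain ⟨W, hW, hyW, hWU0⟩ :=
    exists_isAffineOpen_mem_and_subset (U := pX ⁻¹ᵁ U0) (x := i y) hy0
  have hWU : W ≤ pX ⁻¹ᵁ U0 := hWU0
  have hW' : IsAffineOpen (i ⁻¹ᵁ W) := hW.preimage i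
  have hle : i ⁻¹ᵁ W ≤ pY ⁻¹ᵁ U0 := by
    rw [← w]; exact fun _ h => hWU h
  have hfac : pX.appLE U0 W hWU ≫ i.app W = pY.appLE U0 (i ⁻¹ᵁ W) hle := by
    subst w
    rw [Scheme.Hom.app_eq_appLE, Scheme.Hom.appLE_comp_appLE]
  algebraize [(pX.appLE U0 W hWU).hom, (pY.appLE U0 (i ⁻¹ᵁ W) hle).hom]
  haveI : Algebra.Smooth Γ(S, U0) Γ(X, W) :=
    RingHom.smooth_algebraMap.mp (HasRingHomProperty.appLE @Smooth pX inferInstance ⟨U0, hU0⟩ ⟨W, hW⟩ hWU)
  haveI : Algebra.Smooth Γ(S, U0) Γ(Y, i ⁻¹ᵁ W) :=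
    RingHom.smooth_algebraMap.mp
      (HasRingHomProperty.appLE @Smooth pY inferInstance ⟨U0, hU0⟩ ⟨i ⁻¹ᵁ W, hW'⟩ hle)
  let φ : Γ(X, W) →ₐ[Γ(S, U0)] Γ(Y, i ⁻¹ᵁ W) :=
    ⟨(i.app W).hom, fun r => CategoryTheory.congr_fun hfac r⟩
  obtain ⟨f, hf, r, m, g, g', he, hspan⟩ := exists_coordinates φ (i.app_surjective W hW)
    (hW.primeIdealOf ⟨i y, hyW⟩).asIdeal (ker_app_le_primeIdealOf i hW y hyW)
  have hyD : i y ∈ X.basicOpen f := (mem_basicOpen_iff_notMem hW ⟨i y, hyW⟩ f).mpr hf
  haveI := hW.isLocalization_basicOpen f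
  let e : Localization.Away f ≃ₐ[Γ(X, W)] Γ(X, X.basicOpen f) :=
    IsLocalization.algEquiv (Submonoid.powers f) _ _
  let v : ULift.{u} (Fin m ⊕ Fin r) → Γ(X, X.basicOpen f) := fun j =>
    Sum.elim (fun a => e (g' a)) (fun b => algebraMap Γ(X, W) Γ(X, X.basicOpen f) (g b)) j.down
  refine ⟨X.basicOpen f, hW.basicOpen f, m, r, v, hyD, ?_, ?_⟩
  · refine etale_homOfVector pX hU0 (hW.basicOpen f) ((X.basicOpen_le f).trans hWU) v ?_
    let σe : ULift.{u} (Fin m ⊕ Fin r) ≃ Fin r ⊕ Fin m := Equiv.ulift.trans (Equiv.sumComm _ _)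
    have heq : eval₂Hom (pX.appLE U0 (X.basicOpen f) ((X.basicOpen_le f).trans hWU)).hom v =
        e.toRingEquiv.toRingHom.comp ((MvPolynomial.aeval (Sum.elim
          (fun i => algebraMap Γ(X, W) (Localization.Away f) (g i)) g') :
            MvPolynomial (Fin r ⊕ Fin m) Γ(S, U0) →ₐ[Γ(S, U0)] Localization.Away f).toRingHom.comp
          (MvPolynomial.renameEquiv Γ(S, U0) σe).toRingEquiv.toRingHom) := by
      refine MvPolynomial.ringHom_ext (fun c => ?_) (fun j => ?_)
      · rw [eval₂Hom_C]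
        show _ = e (MvPolynomial.aeval _ (MvPolynomial.rename σe (C c)))
        rw [rename_C, aeval_C, IsScalarTower.algebraMap_apply Γ(S, U0) Γ(X, W) (Localization.Away f), AlgEquiv.commutes]
        exact (CategoryTheory.congr_fun
          (Scheme.Hom.appLE_map pX hWU (homOfLE (X.basicOpen_le f)).op) c).symm
      · rw [eval₂Hom_X']
        show _ = e (MvPolynomial.aeval _ (MvPolynomial.rename σe (MvPolynomial.X j)))
        rw [rename_X, aeval_X]
        obtain ⟨a | b⟩ := j
        · rfl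
        · exact (e.commutes (g b)).symm
    rw [heq]
    exact RingHom.Etale.respectsIso.1 _ _ (RingHom.Etale.respectsIso.2 _ _ he)
  · rw [ker_restrict_appTop, ker_app_basicOpen i hW f]
    have := congrArg (Ideal.map e.toAlgHom.toRingHom) hspan
    rw [Ideal.map_map, Ideal.map_span, ← Set.range_comp] at this
    have hc : e.toAlgHom.toRingHom.comp (algebraMap Γ(X, W) (Localization.Away f)) =
        algebraMap Γ(X, W) Γ(X, X.basicOpen f) := e.toAlgHom.comp_algebraMap
    rw [hc] at this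
    refine (congrArg (Ideal.map _) this).trans ?_
    rw [Ideal.map_span, ← Set.range_comp]
    congr 2
    funext b
    exact congrArg _ (e.commutes (g b))

end Main

end Groth.Agent.SmCoord14
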