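import Groth.Agent.S2818
import Mathlib.RingTheory.RingHom.Smooth
import Mathlib.RingTheory.RingHom.Etale

/-!
Étale coordinates adapted to a smooth quotient of a smooth algebra, without chosen generators.
-/

universe u

open TensorProduct

namespace Groth.Agent.SmCoord14

/-- Elements of a finitely generated ideal which generate it at a prime, in minimal number. -/
theorem exists_minimal_generators {B : Type u} [CommRing B] (J : Ideal B) (hJ : J.FG) (q : Ideal B)
    [q.IsPrime] :
    ∃ (r : ℕ) (g : Fin r → B), (∀ i, g i ∈ J) ∧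
      J.map (algebraMap B (Localization.AtPrime q)) =
        Ideal.span (Set.range fun i => algebraMap B (Localization.AtPrime q) (g i)) ∧
      r = Module.finrank q.ResidueField (q.ResidueField ⊗[B] J) := by
  let P := Localization.AtPrime q
  let κ := q.ResidueField
  haveI : Module.Finite B J := Module.Finite.iff_fg.mpr hJ
  let s : Set (κ ⊗[B] J) := Set.range fun j : J => (1 : κ) ⊗ₜ[B] j
  have hs : Submodule.span κ s = ⊤ := by
    refine eq_top_iff.mpr fun z _ => ?_
    induction z using TensorProduct.induction_on with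
    | zero => exact zero_mem _
    | add x y hx hy => exact add_mem (hx trivial) (hy trivial)
    | tmul c j =>
      rw [show c ⊗ₜ[B] j = c • ((1 : κ) ⊗ₜ[B] j) by rw [TensorProduct.smul_tmul', smul_eq_mul, mul_one]]
      exact Submodule.smul_mem _ _ (Submodule.subset_span ⟨j, rfl⟩)
  obtain ⟨F, hF, hFspan, hFli⟩ := Submodule.exists_fun_fin_finrank_span_eq κ s
  choose g hg using hF
  refine ⟨Module.finrank κ (Submodule.span κ s), fun i => (g i).1, fun i => (g i).2, ?_,
    by rw [hs, finrank_top]⟩
  let M := P ⊗[B] J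
  let e := TensorProduct.AlgebraTensorModule.cancelBaseChange B P κ κ J
  let b : Module.Basis _ κ (κ ⊗[P] M) :=
    (Module.Basis.mk hFli (by rw [hFspan, hs])).map e.symm
  have hb : ∀ i, (1 : κ) ⊗ₜ[P] ((1 : P) ⊗ₜ[B] g i) = b i := fun i => by
    rw [Module.Basis.map_apply, Module.Basis.mk_apply, ← hg i]
    rfl
  have hN := IsLocalRing.span_eq_top_of_tmul_eq_basis (fun i => (1 : P) ⊗ₜ[B] g i) b hb
  refine le_antisymm ?_ (Ideal.span_le.mpr fun _ ⟨i, hi⟩ => hi ▸ Ideal.mem_map_of_mem _ (g i).2)
  rw [Ideal.map_le_iff_le_comap]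
  intro x hx
  let μ : M →ₗ[P] P := ((Algebra.linearMap B P).comp J.subtype).liftBaseChange P
  have hmem : μ ((1 : P) ⊗ₜ[B] ⟨x, hx⟩) ∈
      (Submodule.span P (Set.range fun i => (1 : P) ⊗ₜ[B] g i)).map μ :=
    Submodule.mem_map_of_mem (hN ▸ Submodule.mem_top)
  have hμ : ∀ j : J, μ ((1 : P) ⊗ₜ[B] j) = algebraMap B P j.1 := fun j =>
    (LinearMap.liftBaseChange_tmul _ _ _ _).trans (one_smul _ _)
  rw [Submodule.map_span, ← Set.range_comp, hμ] at hmem
  simp only [Function.comp_def, hμ] at hmem
  exact hmem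

/-- Étale coordinates adapted to a smooth quotient of a smooth algebra. -/
theorem exists_coordinates {A B C : Type u} [CommRing A] [CommRing B] [CommRing C]
    [Algebra A B] [Algebra A C] [Algebra.Smooth A B] [Algebra.Smooth A C] (φ : B →ₐ[A] C)
    (hφ : Function.Surjective φ) (q : Ideal B) [q.IsPrime] (hq : RingHom.ker φ.toRingHom ≤ q) :
    ∃ (f : B) (_ : f ∉ q) (r m : ℕ) (g : Fin r → B) (g' : Fin m → Localization.Away f),
      (MvPolynomial.aeval (Sum.elim (fun i => algebraMap B (Localization.Away f) (g i)) g') :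
          MvPolynomial (Fin r ⊕ Fin m) A →ₐ[A] Localization.Away f).toRingHom.Etale ∧
      (RingHom.ker φ.toRingHom).map (algebraMap B (Localization.Away f)) =
        Ideal.span (Set.range fun i => algebraMap B (Localization.Away f) (g i)) := by
  let J := RingHom.ker φ.toRingHom
  have hJ : J.FG := Algebra.FinitePresentation.ker_fG_of_surjective φ hφ
  haveI : Algebra.Smooth A (B ⧸ J) :=
    Algebra.Smooth.of_equiv (Ideal.quotientKerAlgEquivOfSurjective hφ).symm
  let Q : Ideal (B ⧸ J) := q.map (Ideal.Quotient.mk J)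
  haveI : Q.IsPrime := Ideal.map_isPrime_of_surjective Ideal.Quotient.mk_surjective
    (by rw [Ideal.mk_ker]; exact hq)
  have hQ : Q.comap (Ideal.Quotient.mk J) = q := by
    rw [Ideal.comap_map_of_surjective _ Ideal.Quotient.mk_surjective, ← RingHom.ker_eq_comap_bot,
      Ideal.mk_ker, sup_eq_left.mpr hq]
  haveI : Algebra.IsSmoothAt A q := by
    haveI : Algebra.FormallySmooth B (Localization.AtPrime q) :=
      Algebra.FormallySmooth.of_isLocalization q.primeCompl
    exact Algebra.FormallySmooth.comp A B _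
  haveI : Algebra.IsSmoothAt A Q := by
    haveI : Algebra.FormallySmooth (B ⧸ J) (Localization.AtPrime Q) :=
      Algebra.FormallySmooth.of_isLocalization Q.primeCompl
    exact Algebra.FormallySmooth.comp A (B ⧸ J) _
  obtain ⟨r, g, hg, hgen, hmin⟩ := exists_minimal_generators J hJ q
  obtain ⟨f, hf, m, g', he, hspan⟩ :=
    Groth.Agent.S2818.result A B J hJ q hq Q hQ r g hg hgen hmin
  exact ⟨f, hf, r, m, g, g', he, hspan⟩

end Groth.Agent.SmCoord14
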